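import Groth.Agent.PicLoc.K727.Sec
import Mathlib.AlgebraicGeometry.Sites.EtalePoint

/-!
# Etale sheafification at an algebraically closed field
-/

set_option autoImplicit false
universe u v w
open CategoryTheory CategoryTheory.Limits AlgebraicGeometry Opposite

namespace K305.ShField

/-- If every covering sieve of `T` contains the identity, sheafification does not change the value at `T`. -/
theorem bijective_toSheafify_of_id {C : Type u} [Category.{v} C] (J : GrothendieckTopology C)
    [HasWeakSheafify J (Type w)] [J.WEqualsLocallyBijective (Type w)] (F : Cᵒᵖ ⥤ Type w) (T : C)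
    (hT : ∀ R ∈ J T, R.arrows (𝟙 T)) :
    Function.Bijective ((toSheafify J F).app (op T)) := by
  constructor
  · intro x y h
    have h1 := Presheaf.equalizerSieve_mem J (toSheafify J F) x y h
    have h2 := hT _ h1
    simpa using h2
  · intro s
    have h1 := Presheaf.imageSieve_mem J (toSheafify J F) s
    obtain ⟨t, ht⟩ := hT _ h1
    exact ⟨t, by simpa using ht⟩

theorem id_mem (k : Type u) [Field k] (K : Type u) [Field K] [Algebra k K] [IsAlgClosed K]
    (R : Sieve (PicLoc.spc k K)) (hR : R ∈ QuotSh.J Scheme.etalePrecoverage (PicLoc.base k) (PicLoc.spc k K)) :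
    R.arrows (𝟙 (PicLoc.spc k K)) := by
  rw [K727.Sec.mem_etale_iff] at hR
  obtain ⟨Y, g, hg, hE, y, hy⟩ := hR (IsLocalRing.closedPoint K)
  obtain ⟨l, hl, -⟩ := Scheme.exists_fac_of_etale_of_isSepClosed (Ω := K) g.left (𝟙 (Spec (CommRingCat.of K))) y
    (Subsingleton.elim (α := PrimeSpectrum K) _ _)
  have hw : l ≫ Y.hom = (PicLoc.spc k K).hom := by
    rw [← Over.w g, ← Category.assoc]
    exact (congrArg (· ≫ (PicLoc.spc k K).hom) hl).trans (Category.id_comp _)
  let l' : PicLoc.spc k K ⟶ Y := Over.homMk l hw
  have h1 : l' ≫ g = 𝟙 _ := Over.OverMorphism.ext hl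
  rw [← h1]
  exact R.downward_closed hg l'

/-- The étale sheafification of a presheaf on `k`-schemes has the same value at an algebraically closed field. -/
theorem bijective_toSheafify_field (k : Type u) [Field k] (F : (Over (PicLoc.base k))ᵒᵖ ⥤ Type (u + 1)) (K : Type u)
    [Field K] [Algebra k K] [IsAlgClosed K] :
    Function.Bijective ((toSheafify (QuotSh.J Scheme.etalePrecoverage (PicLoc.base k)) F).app (op (PicLoc.spc k K))) :=
  bijective_toSheafify_of_id _ F _ (id_mem k K)

end K305.ShField
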